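import Groth.Agent.Lib.PnKoszul9.Criterion
import Groth.Agent.Lib.DKill9.Linear
import Groth.Agent.Lib.BC8.SuppAff
import Groth.Agent.Lib.BC8.AffineLine
import Groth.Agent.Lib.DGen9.CompactPerf
import Groth.Agent.Lib.Serre.Basic
import Groth.Prelude.Def_KLin

/-! Linear duality in the derived category of the spectrum of a field. -/

set_option autoImplicit false
set_option linter.unusedSectionVars false
set_option linter.style.haveILetI false
set_option backward.isDefEq.respectTransparency false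
set_option backward.isDefEq.respectTransparency.types false
set_option maxHeartbeats 1600000

universe u

open CategoryTheory CategoryTheory.Limits AlgebraicGeometry
open Groth.Agent.TwistBC9 (oneD)

attribute [local instance] HasDerivedCategory.standard

namespace Groth.Agent.SerreP9

variable (k : Type u) [Field k]

/-- The spectrum over itself. -/
@[reducible] noncomputable def selfOver : (Spec (CommRingCat.of k)).Over (Spec (CommRingCat.of k)) := ⟨𝟙 _⟩

attribute [local instance] selfOver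

local notation "SS" => Spec (CommRingCat.of k)

theorem scal_self (a : k) : DKill9.scal (CommRingCat.of k) a = a := by
  simp [DKill9.scal, Coh.toGlobal]
  exact (Scheme.ΓSpecIso (CommRingCat.of k)).commRingCatIsoToRingEquiv.apply_symm_apply a

theorem bijective_smul_id_structure :
    Function.Bijective fun c : k => c • 𝟙 (Coh.structureModule SS) := by
  let e : (tilde.functor (CommRingCat.of k)).obj (ModuleCat.of k k) ≅ Coh.structureModule SS :=
    tildeSelf (R := CommRingCat.of k)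
  have hc : ∀ c : k, e.inv ≫ (tilde.functor (CommRingCat.of k)).map (c • 𝟙 (ModuleCat.of k k)) ≫ e.hom =
      c • 𝟙 (Coh.structureModule SS) := fun c => by
    have h := DKill9.tilde_map_smul_id (A := k) (CommRingCat.of k) (ModuleCat.of k k) c
    rw [scal_self] at h
    erw [h]
    rw [KLin.smul_id, Formal.smulMod, ← KLin.comp_smulModΓ, Iso.inv_hom_id_assoc]
    rfl
  haveI := (tilde.fullyFaithfulFunctor (R := CommRingCat.of k)).full
  haveI := (tilde.fullyFaithfulFunctor (R := CommRingCat.of k)).faithful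
  refine ⟨fun a b hab => ?_, fun g => ?_⟩
  · have h' : (a • 𝟙 (ModuleCat.of k k) : ModuleCat.of k k ⟶ _) = b • 𝟙 _ := by
      apply (tilde.functor (CommRingCat.of k)).map_injective
      rw [← cancel_mono e.hom, ← cancel_epi e.inv]
      exact (hc a).trans (hab.trans (hc b).symm)
    simpa using congrArg (fun φ : ModuleCat.of k k ⟶ ModuleCat.of k k => φ.hom (1 : k)) h'
  · obtain ⟨φ, hφ⟩ := (tilde.functor (CommRingCat.of k)).map_surjective (e.hom ≫ g ≫ e.inv)
    refine ⟨φ.hom (1 : k), ?_⟩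
    have : φ = φ.hom (1 : k) • 𝟙 (ModuleCat.of k k) := by
      ext
      simp
    show φ.hom (1 : k) • 𝟙 _ = g
    rw [← hc, ← this, hφ]
    simp

/-- The coefficient of an endomorphism of the structure sheaf. -/
noncomputable def coeff : (oneD SS 0 ⟶ oneD SS 0) ≃ₗ[k] k :=
  (LinearEquiv.ofBijective (LinearMap.toSpanSingleton k _ (𝟙 (oneD SS 0))) (by
    have h : (fun c : k => c • 𝟙 (oneD SS 0)) =
        (DerivedCategory.singleFunctor (Spec (CommRingCat.of k)).Modules 0).map ∘
          fun c : k => c • 𝟙 (Coh.structureModule SS) := by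
      funext c
      simp
    show Function.Bijective fun c : k => c • 𝟙 (oneD SS 0)
    rw [h]
    exact Function.Bijective.comp ((Functor.FullyFaithful.ofFullyFaithful
      (DerivedCategory.singleFunctor (Spec (CommRingCat.of k)).Modules 0)).map_bijective _ _)
        (bijective_smul_id_structure k))).symm

theorem coeff_smul_id (c : k) : coeff k (c • 𝟙 (oneD SS 0)) = c :=
  ((coeff k).apply_symm_apply c :)

theorem isQCohD_oneD (n : ℤ) : DCoh.IsQCohD (oneD SS n) :=
  DGen9.isQCohD_of_isPerfect (DGen9.isPerfect_of_iso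
    (BC8.shiftOne SS (-n) ≪≫ eqToIso (by rw [neg_neg])) (DGen9.isPerfect_shiftD BC8.isPerfect_one _))

theorem hom_oneD_eq_zero {n m : ℤ} (h : n ≠ m) (φ : oneD SS n ⟶ oneD SS m) : φ = 0 := by
  refine PnKoszul9.hom_one_eq_zero (isQCohD_oneD k m) n ?_ φ
  rcases lt_or_gt_of_ne h with h | h
  · exact DerivedCategory.isZero_of_isGE _ m n h
  · exact DerivedCategory.isZero_of_isLE _ m n h

/-- Every quasi-coherent object is a sum of shifted copies of the structure sheaf. -/
theorem exists_decomposition (M : DCoh.D SS) (hM : DCoh.IsQCohD M) :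
    ∃ (ι : Type u) (d : ι → ℤ) (v : ∀ i, oneD SS (d i) ⟶ M) (hc : HasCoproduct fun i => oneD SS (d i))
      (b : Module.Basis {i // d i = 0} k (oneD SS 0 ⟶ M)),
      IsIso (Sigma.desc v) ∧ (∀ (i : {i // d i = 0}), b i = eqToHom (by rw [i.2]) ≫ v i.1) ∧
        ∀ n : ℤ, (Module.Finite k (oneD SS n ⟶ M) → {i | d i = n}.Finite) ∧
          (Subsingleton (oneD SS n ⟶ M) → ∀ i, d i ≠ n) := by
  classical
  haveI : LocallySmall.{u} (DCoh.D SS) := RHom.locallySmall_derivedCategory (Spec (CommRingCat.of k)).Modules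
  haveI hJ : ∀ n : ULift.{u} ℤ, Small.{u} (Module.Free.ChooseBasisIndex k (oneD SS n.down ⟶ M)) := fun n =>
    small_of_injective (Module.Free.chooseBasis k (oneD SS n.down ⟶ M)).injective
  let J : ULift.{u} ℤ → Type u := fun n => Shrink.{u} (Module.Free.ChooseBasisIndex k (oneD SS n.down ⟶ M))
  let ι : Type u := Σ n : ULift.{u} ℤ, J n
  let bn : ∀ n : ULift.{u} ℤ, Module.Basis (J n) k (oneD SS n.down ⟶ M) := fun n =>
    (Module.Free.chooseBasis k _).reindex (equivShrink _)
  let d : ι → ℤ := fun i => i.1.down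
  let v : ∀ i, oneD SS (d i) ⟶ M := fun i => bn i.1 i.2
  haveI hc := DPush.hasCoproduct_D fun i => oneD SS (d i)
  let α := Sigma.desc v
  let eIdx : J ⟨0⟩ ≃ {i : ι // d i = 0} :=
    { toFun := fun j => ⟨⟨⟨0⟩, j⟩, rfl⟩
      invFun := fun i => (show i.1.1 = ⟨0⟩ from ULift.down_injective i.2) ▸ i.1.2
      left_inv := fun j => rfl
      right_inv := by
        rintro ⟨⟨⟨n⟩, j⟩, hn⟩
        obtain rfl : n = 0 := hn
        rfl }
  refine ⟨ι, d, v, hc, (bn ⟨0⟩).reindex eIdx, ?_, ?_, fun n => ⟨fun hf => ?_, fun hs i hi => ?_⟩⟩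
  · obtain ⟨C, q, r, hT⟩ := Pretriangulated.distinguished_cocone_triangle α
    have hq : DCoh.IsQCohD (∐ fun i => oneD SS (d i)) := DPerf.isQCohD_sigma _ fun i => isQCohD_oneD k _
    have hsurj : ∀ n (ψ : oneD SS n ⟶ M), ∃ χ, χ ≫ α = ψ := fun n => by
      let L : (oneD SS n ⟶ ∐ fun i => oneD SS (d i)) →ₗ[k] (oneD SS n ⟶ M) := Linear.rightComp k _ α
      suffices h : LinearMap.range L = ⊤ from fun ψ => LinearMap.range_eq_top.1 h ψ
      rw [eq_top_iff, ← (bn ⟨n⟩).span_eq, Submodule.span_le]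
      rintro _ ⟨j, rfl⟩
      exact ⟨Sigma.ι (fun i => oneD SS (d i)) ⟨⟨n⟩, j⟩, Sigma.ι_desc v (⟨⟨n⟩, j⟩ : ι)⟩
    have hinj : ∀ n (χ : oneD SS n ⟶ ∐ fun i => oneD SS (d i)), χ ≫ α = 0 → χ = 0 := fun n χ hχ => by
      obtain ⟨s, hs⟩ := DGen9.qFin_of_isPerfect (DGen9.isPerfect_of_iso
        (BC8.shiftOne SS (-n) ≪≫ eqToIso (by rw [neg_neg])) (DGen9.isPerfect_shiftD BC8.isPerfect_one _)) ι
        (fun i => oneD SS (d i)) (fun i => isQCohD_oneD k _) χ
      rw [DPush.finProj_eq_sum, Preadditive.comp_sum] at hs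
      have hm : ∀ i : ι, i.1 ≠ ⟨n⟩ → χ ≫ Sigma.π (fun i => oneD SS (d i)) i = 0 := fun i hi =>
        hom_oneD_eq_zero k (fun e => hi (ULift.down_injective e.symm)) _
      let t : Finset (J ⟨n⟩) := s.preimage (fun j => (⟨⟨n⟩, j⟩ : ι)) (fun a _ b _ h => by cases h; rfl)
      have hχ' : χ = ∑ j ∈ t, (χ ≫ Sigma.π (fun i => oneD SS (d i)) (⟨⟨n⟩, j⟩ : ι)) ≫
          Sigma.ι (fun i => oneD SS (d i)) (⟨⟨n⟩, j⟩ : ι) := by
        conv_lhs => rw [← hs]
        simp only [← Category.assoc]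
        convert (Finset.sum_preimage (fun j => (⟨⟨n⟩, j⟩ : ι)) s
          (fun a _ b _ h => by cases h; rfl)
          (fun i => (χ ≫ Sigma.π (fun i => oneD SS (d i)) i) ≫ Sigma.ι (fun i => oneD SS (d i)) i)
          fun i hi hni => ?_).symm
        obtain ⟨n', j⟩ := i
        have h : n' ≠ (⟨n⟩ : ULift.{u} ℤ) := fun h => hni (h ▸ ⟨j, by subst h; rfl⟩)
        try simp only
        rw [hm ⟨n', j⟩ h, zero_comp]
      have hcj : ∀ j, ∃ c : k, χ ≫ Sigma.π (fun i => oneD SS (d i)) (⟨⟨n⟩, j⟩ : ι) = c • 𝟙 (oneD SS n) :=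
        fun j => by
          let sn := BC8.shiftOne SS (-n) ≪≫ eqToIso (show oneD SS (- -n) = oneD SS n by rw [neg_neg])
          obtain ⟨ψ, hψ⟩ : ∃ ψ : oneD SS 0 ⟶ oneD SS 0, (shiftFunctor _ (-n)).map ψ =
              sn.hom ≫ (χ ≫ Sigma.π (fun i => oneD SS (d i)) (⟨⟨n⟩, j⟩ : ι)) ≫ sn.inv :=
            (shiftFunctor _ (-n)).map_surjective _
          obtain ⟨c, rfl⟩ : ∃ c : k, c • 𝟙 _ = ψ := ⟨coeff k ψ, (coeff k).injective (coeff_smul_id k _)⟩
          refine ⟨c, ?_⟩
          rw [← cancel_epi sn.hom, ← cancel_mono sn.inv, Category.assoc, ← hψ, Functor.map_smul,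
            CategoryTheory.Functor.map_id, Linear.comp_smul, Linear.smul_comp]
          erw [Category.comp_id]
          rw [Iso.hom_inv_id]
      choose c hc' using hcj
      have h0 : (∑ j ∈ t, c j • bn ⟨n⟩ j) = 0 := by
        rw [← hχ, hχ', Preadditive.sum_comp]
        refine Finset.sum_congr rfl fun j _ => ?_
        rw [hc', Category.assoc, Sigma.ι_desc, Linear.smul_comp, Category.id_comp]
      have hc0 := linearIndependent_iff'.1 (bn ⟨n⟩).linearIndependent t c h0
      rw [hχ']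
      exact Finset.sum_eq_zero fun j hj => by rw [hc', hc0 j hj, zero_smul, zero_comp]
    have hCq : DCoh.IsQCohD C := DPush.isQCohD_obj₃ _ hT hq hM
    have hzC : IsZero C := DMV.isZero_of_hd (Z := C) fun j => PnKoszul9.isZero_HD_of_hom hCq j fun φ => by
      have hS : ∀ (n : ℤ), ∃ (w : oneD SS n ⟶ (oneD SS (n + 1))⟦(1 : ℤ)⟧), IsIso w := fun n => by
        let i := ((DerivedCategory.singleFunctors (Spec (CommRingCat.of k)).Modules).shiftIso (1 : ℤ) n (n + 1)
          (by omega)).app (Coh.structureModule SS)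
        exact ⟨i.inv, inferInstance⟩
      obtain ⟨w, hw⟩ := hS j
      obtain ⟨χ, hχ⟩ : ∃ χ : oneD SS (j + 1) ⟶ ∐ fun i => oneD SS (d i),
          inv w ≫ φ ≫ r = χ⟦(1 : ℤ)⟧' := by
        obtain ⟨χ, hχ⟩ := (shiftFunctor (DCoh.D SS) (1 : ℤ)).map_surjective (inv w ≫ φ ≫ r)
        exact ⟨χ, hχ.symm⟩
      have hr : φ ≫ r = 0 := by
        rw [← cancel_epi (inv w), hχ, comp_zero]
        rw [hinj _ χ ((shiftFunctor (DCoh.D SS) (1 : ℤ)).map_injective (by
          rw [Functor.map_comp, ← hχ, Functor.map_zero, Category.assoc, Category.assoc]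
          have := Pretriangulated.comp_distTriang_mor_zero₃₁ _ hT
          simp only [Pretriangulated.Triangle.mk] at this
          rw [this, comp_zero, comp_zero])), Functor.map_zero]
      obtain ⟨ψ, hψ⟩ := Pretriangulated.Triangle.coyoneda_exact₃ _ hT φ hr
      obtain ⟨χ', rfl⟩ := hsurj j ψ
      have := Pretriangulated.comp_distTriang_mor_zero₁₂ _ hT
      simp only [Pretriangulated.Triangle.mk] at this hψ
      rw [hψ, Category.assoc, this, comp_zero]
    exact (Pretriangulated.Triangle.isZero₃_iff_isIso₁ _ hT).1 hzC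
  · rintro ⟨⟨⟨n⟩, j⟩, hn⟩
    obtain rfl : n = 0 := hn
    simp only [Module.Basis.reindex_apply, eqToHom_refl, Category.id_comp]
    rfl
  · haveI : Finite (J ⟨n⟩) := Module.Finite.finite_basis (bn ⟨n⟩)
    refine (Set.finite_range fun j : J ⟨n⟩ => (⟨⟨n⟩, j⟩ : ι)).subset ?_
    rintro ⟨⟨m⟩, j⟩ hm
    obtain rfl : m = n := hm
    exact ⟨j, rfl⟩
  · obtain ⟨⟨m⟩, j⟩ := i
    obtain rfl : m = n := hi
    exact (bn ⟨m⟩).ne_zero j (Subsingleton.elim _ _)

/-- Linear duality. -/
theorem bijective_pairing_field (M : DCoh.D SS) (hM : DCoh.IsQCohD M) :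
    Function.Bijective (Serre.pairing (coeff k).toLinearMap M) := by
  classical
  obtain ⟨ι, d, v, hc, b, hiso, hb, -⟩ := exists_decomposition k M hM
  refine ⟨fun g g' hg => ?_, fun φ => ?_⟩
  · rw [← cancel_epi (Sigma.desc v)]
    refine Sigma.hom_ext _ _ fun i => ?_
    simp only [Sigma.ι_desc_assoc]
    by_cases hi : d i = 0
    · have h := DFunLike.congr_fun hg (b ⟨i, hi⟩)
      simp only [Serre.pairing_apply, LinearEquiv.coe_coe, EmbeddingLike.apply_eq_iff_eq] at h
      rw [hb ⟨i, hi⟩, Category.assoc, Category.assoc, cancel_epi] at h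
      exact h
    · rw [hom_oneD_eq_zero k hi (v i ≫ g), hom_oneD_eq_zero k hi (v i ≫ g')]
  · let w : ∀ i, oneD SS (d i) ⟶ oneD SS 0 := fun i =>
      if h : d i = 0 then φ (b ⟨i, h⟩) • eqToHom (by rw [h]) else 0
    refine ⟨inv (Sigma.desc v) ≫ Sigma.desc w, b.ext fun i => ?_⟩
    obtain ⟨i, hi⟩ := i
    have e : v i ≫ inv (Sigma.desc v) = Sigma.ι (fun i => oneD SS (d i)) i := by
      rw [IsIso.comp_inv_eq, Sigma.ι_desc]
    simp only [Serre.pairing_apply, LinearEquiv.coe_coe]
    rw [hb ⟨i, hi⟩, Category.assoc, reassoc_of% e, Sigma.ι_desc]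
    simp only [w, dif_pos hi, Linear.comp_smul, eqToHom_trans, eqToHom_refl, coeff_smul_id]
    exact congrArg φ (hb ⟨i, hi⟩)

end Groth.Agent.SerreP9
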