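import Mathlib.CategoryTheory.Monoidal.Rigid.Basic
import Mathlib.CategoryTheory.Monoidal.CoherenceLemmas
import Mathlib.Tactic.CategoryTheory.Monoidal.Basic
import Groth.Agent.Lib.Serre.Basic

/-! Traces with values in an object, for objects with duals in a monoidal category with a commutation constraint. -/

set_option autoImplicit false
set_option linter.unusedSectionVars false
set_option backward.isDefEq.respectTransparency false

universe w v u

open CategoryTheory MonoidalCategory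

namespace Groth.Agent.SerreP9

variable {C : Type u} [Category.{v} C] [MonoidalCategory C] (β : curriedTensor C ≅ (curriedTensor C).flip)

/-- The commutation isomorphism. -/
abbrev bra (A B : C) : A ⊗ B ≅ B ⊗ A := (β.app A).app B

theorem bra_natural_left {A A' : C} (f : A ⟶ A') (B : C) :
    f ▷ B ≫ (bra β A' B).hom = (bra β A B).hom ≫ B ◁ f :=
  NatTrans.naturality_app β.hom B f

theorem bra_natural_right (A : C) {B B' : C} (g : B ⟶ B') :
    A ◁ g ≫ (bra β A B').hom = (bra β A B).hom ≫ g ▷ A :=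
  (β.hom.app A).naturality g

variable (A D : C) [ExactPairing A D]

/-- The coevaluation in the other order. -/
noncomputable def coev : 𝟙_ C ⟶ D ⊗ A := η_ A D ≫ (bra β A D).hom

/-- Maps out of `A` as sections of `D ⊗ B`. -/
noncomputable def sect {B : C} (f : A ⟶ B) : 𝟙_ C ⟶ D ⊗ B := coev β A D ≫ D ◁ f

/-- Maps into `A ⊗ W` as maps out of `D ⊗ B`. -/
def cosect {B W : C} (g : B ⟶ A ⊗ W) : D ⊗ B ⟶ W := (tensorLeftHomEquiv B A D W).symm g

/-- The trace. -/
noncomputable def trace {W : C} (u : A ⟶ A ⊗ W) : 𝟙_ C ⟶ W := coev β A D ≫ cosect A D u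

theorem trace_comp {B W : C} (f : A ⟶ B) (g : B ⟶ A ⊗ W) :
    trace β A D (f ≫ g) = sect β A D f ≫ cosect A D g := by
  rw [trace, sect, cosect, cosect, tensorLeftHomEquiv_symm_naturality, Category.assoc]

theorem bijective_sect (B : C) : Function.Bijective (sect β A D (B := B)) := by
  have h : sect β A D (B := B) = (fun x => x ≫ (bra β B D).hom) ∘ (tensorRightHomEquiv (𝟙_ C) A D B) ∘
      fun f => (λ_ A).hom ≫ f := by
    funext f
    have e : tensorRightHomEquiv (𝟙_ C) A D B ((λ_ A).hom ≫ f) = η_ A D ≫ f ▷ D := by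
      simp [tensorRightHomEquiv, unitors_equal]
    simp only [Function.comp_apply, e, sect, coev, Category.assoc, bra_natural_left]
  have hL : Function.Bijective (fun f : A ⟶ B => (λ_ A).hom ≫ f) := (λ_ A).symm.homFromEquiv.bijective
  have hR : Function.Bijective (fun x : 𝟙_ C ⟶ B ⊗ D => x ≫ (bra β B D).hom) := (bra β B D).homToEquiv.bijective
  rw [h]
  exact hR.comp ((tensorRightHomEquiv (𝟙_ C) A D B).bijective.comp hL)

theorem bijective_cosect (B W : C) : Function.Bijective (cosect A D (B := B) (W := W)) := Equiv.bijective _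

section Cyclic

variable {A D} {A' D' : C} [ExactPairing A' D']

theorem exists_mate (e : A' ⟶ A) :
    ∃ m : D ⟶ D', η_ A' D' ≫ e ▷ D' = η_ A D ≫ A ◁ m ∧ m ▷ A' ≫ ε_ A' D' = D ◁ e ≫ ε_ A D := by
  refine ⟨(ρ_ D).inv ≫ (tensorLeftHomEquiv (𝟙_ C) A D D').symm (η_ A' D' ≫ e ▷ D'), ?_, ?_⟩
  · have h := (tensorLeftHomEquiv (𝟙_ C) A D D').apply_symm_apply (η_ A' D' ≫ e ▷ D')
    generalize (tensorLeftHomEquiv (𝟙_ C) A D D').symm (η_ A' D' ≫ e ▷ D') = φ at h ⊢
    rw [← h]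
    simp [tensorLeftHomEquiv, ← unitors_equal]
  · have h := (tensorLeftHomEquiv (𝟙_ C) A D D').apply_symm_apply (η_ A' D' ≫ e ▷ D')
    generalize (tensorLeftHomEquiv (𝟙_ C) A D D').symm (η_ A' D' ≫ e ▷ D') = φ at h ⊢
    refine (tensorLeftHomEquiv A' A D (𝟙_ C)).injective ?_
    simp only [tensorLeftHomEquiv, Equiv.coe_fn_mk] at h ⊢
    calc _ = 𝟙 _ ⊗≫ ((λ_ (𝟙_ C)).inv ≫ η_ A D ▷ 𝟙_ C ≫ (α_ A D (𝟙_ C)).hom ≫ A ◁ φ) ▷ A' ⊗≫
            A ◁ ε_ A' D' ⊗≫ 𝟙 _ := by monoidal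
      _ = 𝟙 _ ⊗≫ η_ A' D' ▷ A' ⊗≫ (e ▷ (D' ⊗ A') ≫ A ◁ ε_ A' D') ⊗≫ 𝟙 _ := by rw [h]; monoidal
      _ = 𝟙 _ ⊗≫ (η_ A' D' ▷ A' ⊗≫ A' ◁ ε_ A' D') ⊗≫ e ▷ 𝟙_ C ⊗≫ 𝟙 _ := by
            rw [← whisker_exchange]; monoidal
      _ = 𝟙 _ ⊗≫ e ⊗≫ (η_ A D ▷ A ⊗≫ A ◁ ε_ A D) ⊗≫ 𝟙 _ := by
            rw [ExactPairing.evaluation_coevaluation'', ExactPairing.evaluation_coevaluation'']; monoidal
      _ = 𝟙 _ ⊗≫ (𝟙_ C ◁ e ≫ η_ A D ▷ A) ⊗≫ A ◁ ε_ A D ⊗≫ 𝟙 _ := by monoidal
      _ = _ := by rw [whisker_exchange]; monoidal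

/-- Cyclicity. -/
theorem trace_cyclic {W : C} (e : A' ⟶ A) (u : A ⟶ A' ⊗ W) :
    trace β A' D' (e ≫ u) = trace β A D (u ≫ e ▷ W) := by
  obtain ⟨m, h1, h2⟩ := exists_mate (D := D) (D' := D') e
  have hc : coev β A' D' ≫ D' ◁ e = coev β A D ≫ m ▷ A := by
    rw [coev, coev, Category.assoc, Category.assoc, ← bra_natural_left, ← bra_natural_right, reassoc_of% h1]
  have h3 : m ▷ (A' ⊗ W) ≫ cosect A' D' (𝟙 (A' ⊗ W)) = cosect A D (e ▷ W) := by
    simp only [cosect, tensorLeftHomEquiv, Equiv.coe_fn_symm_mk]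
    calc _ = 𝟙 _ ⊗≫ (m ▷ A' ≫ ε_ A' D') ▷ W ⊗≫ 𝟙 _ := by monoidal
      _ = _ := by rw [h2]; monoidal
  calc trace β A' D' (e ≫ u) = coev β A' D' ≫ D' ◁ e ≫ cosect A' D' u := by
        rw [trace_comp, sect, Category.assoc]
    _ = coev β A D ≫ m ▷ A ≫ cosect A' D' (u ≫ 𝟙 _) := by rw [reassoc_of% hc, Category.comp_id]
    _ = coev β A D ≫ (m ▷ A ≫ D' ◁ u) ≫ cosect A' D' (𝟙 _) := by
        rw [cosect, tensorLeftHomEquiv_symm_naturality, Category.assoc]; rfl
    _ = coev β A D ≫ D ◁ u ≫ cosect A D (e ▷ W) := by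
        rw [← whisker_exchange, Category.assoc, h3]
    _ = _ := by rw [trace_comp, sect, Category.assoc]

end Cyclic

section Linear

variable {k : Type w} [Field k] [Preadditive C] [Linear k C] [∀ Z : C, (tensorLeft Z).Additive]
  [∀ Z : C, (tensorLeft Z).Linear k] {W : C} (t : (𝟙_ C ⟶ W) →ₗ[k] k) (A D : C) [ExactPairing A D]

/-- `sect` is linear. -/
noncomputable def sectₗ (B : C) : (A ⟶ B) →ₗ[k] (𝟙_ C ⟶ D ⊗ B) :=
  { toFun := sect β A D
    map_add' := fun f g => by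
      simp only [sect]
      rw [show D ◁ (f + g) = D ◁ f + D ◁ g from (tensorLeft D).map_add, Preadditive.comp_add]
    map_smul' := fun r f => by
      simp only [sect, RingHom.id_apply]
      rw [show D ◁ (r • f) = r • D ◁ f from (tensorLeft D).map_smul r f, Linear.comp_smul] }

/-- `cosect` is linear. -/
noncomputable def cosectₗ (B : C) : (B ⟶ A ⊗ W) →ₗ[k] (D ⊗ B ⟶ W) where
  toFun := cosect A D
  map_add' f g := by
    simp only [cosect, tensorLeftHomEquiv, Equiv.coe_fn_symm_mk]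
    rw [show D ◁ (f + g) = D ◁ f + D ◁ g from (tensorLeft D).map_add, Preadditive.add_comp]
  map_smul' r f := by
    simp only [cosect, tensorLeftHomEquiv, Equiv.coe_fn_symm_mk, RingHom.id_apply]
    rw [show D ◁ (r • f) = r • D ◁ f from (tensorLeft D).map_smul r f, Linear.smul_comp]

/-- The trace functional. -/
noncomputable def τ : (A ⟶ A ⊗ W) →ₗ[k] k :=
  t.comp ((Linear.leftComp k W (coev β A D)).comp (cosectₗ A D A))

theorem τ_apply (u : A ⟶ A ⊗ W) : τ β t A D u = t (trace β A D u) := rfl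

/-- Duality from duality out of the unit. -/
theorem bijective_pairing (B : C) (h : Function.Bijective (Serre.pairing t (D ⊗ B))) :
    Function.Bijective (Serre.pairing (τ β t A D) B) := by
  let F : (A ⟶ B) ≃ₗ[k] (𝟙_ C ⟶ D ⊗ B) := LinearEquiv.ofBijective (sectₗ β A D B) (bijective_sect β A D B)
  have e : (Serre.pairing (τ β t A D) B : (B ⟶ A ⊗ W) → Module.Dual k (A ⟶ B)) =
      F.dualMap ∘ Serre.pairing t (D ⊗ B) ∘ cosect A D := by
    funext g
    ext f
    have hF : F f = sect β A D f := rfl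
    simp only [Function.comp_apply, LinearEquiv.dualMap_apply, Serre.pairing_apply, τ_apply, trace_comp, hF]
  rw [e]
  exact F.dualMap.bijective.comp (h.comp (bijective_cosect A D B W))

end Linear

end Groth.Agent.SerreP9
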