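import Groth.Agent.Lib.SerreP9.Linear
import Groth.Agent.Lib.SerreP9.Field
import Groth.Agent.Lib.SerreP9.Trace
import Groth.Agent.Lib.ExtFin9.Fin
import Groth.Agent.Lib.BC8.Setup
import Groth.Agent.Lib.DPerf.Noeth

/-! Duality into the dualizing complex out of the unit, over a field. -/

set_option autoImplicit false
set_option linter.unusedSectionVars false
set_option linter.style.haveILetI false
set_option backward.isDefEq.respectTransparency false
set_option backward.isDefEq.respectTransparency.types false
set_option maxHeartbeats 1600000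

universe u

open CategoryTheory CategoryTheory.Limits MonoidalCategory AlgebraicGeometry
open Groth.Agent.TwistBC9 (oneD)

attribute [local instance] HasDerivedCategory.standard

namespace Groth.Agent.SerreP9

open DMon9

variable {k : Type u} [Field k] {X : Scheme.{u}} [X.Over (Spec (CommRingCat.of k))]

attribute [local instance] selfOver

instance isOver_structure : (X ↘ Spec (CommRingCat.of k)).IsOver (Spec (CommRingCat.of k)) where
  comp_over := Category.comp_id _

local notation "SS" => Spec (CommRingCat.of k)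
local notation "ff" => (X ↘ Spec (CommRingCat.of k))

/-- The unit of the monoidal derived category, as an object of the derived category. -/
noncomputable abbrev one (X : Scheme.{u}) : DCoh.D X := ((𝟙_ (DM X) : DM X) : DCoh.D X)

/-- The unit as a single complex. -/
noncomputable def oneIso (Y : Scheme.{u}) : oneD Y 0 ≅ one Y :=
  (DerivedCategory.singleFunctorIsoCompQ Y.Modules 0).app _

/-- The pullback of the structure sheaf of the base. -/
noncomputable def pullOne : one X ≅ (lP ff).obj (oneD SS 0) :=
  (Functor.Monoidal.εIso (dPull ff) :) ≪≫ (lP ff).mapIso (oneIso SS).symm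

variable [IsProper (X ↘ Spec (CommRingCat.of k))] [DCoh.HasRpush (X ↘ Spec (CommRingCat.of k))]

/-- Sections as maps out of the structure sheaf of the base. -/
noncomputable def secEquiv (P : DCoh.D X) : (one X ⟶ P) ≃ₗ[k] (oneD SS 0 ⟶ (DCoh.Rpush ff).obj P) :=
  haveI := linear_rpush k ff
  haveI : (DCoh.Rpush ff).Additive := (adjLP ff).isRightAdjoint |> fun h => by
    haveI := h
    haveI := preservesBinaryBiproducts_of_preservesBinaryProducts (DCoh.Rpush ff)
    exact Functor.additive_of_preservesBinaryBiproducts _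
  { (pullOne.homFromEquiv).trans ((adjLP ff).homEquiv _ _) with
    map_add' := fun p q => by
      show (adjLP ff).homEquiv _ _ (pullOne.inv ≫ (p + q)) = _
      rw [Preadditive.comp_add, (adjLP ff).homEquiv_unit, Functor.map_add, Preadditive.comp_add,
        ← (adjLP ff).homEquiv_unit, ← (adjLP ff).homEquiv_unit]
      rfl
    map_smul' := fun r p => by
      show (adjLP ff).homEquiv _ _ (pullOne.inv ≫ (r • p)) = r • (adjLP ff).homEquiv _ _ (pullOne.inv ≫ p)
      rw [Linear.comp_smul, (adjLP ff).homEquiv_unit, Functor.map_smul, Linear.comp_smul,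
        ← (adjLP ff).homEquiv_unit] }

theorem secEquiv_comp {P Q : DCoh.D X} (p : one X ⟶ P) (g : P ⟶ Q) :
    secEquiv Q (p ≫ g) = secEquiv P p ≫ (DCoh.Rpush ff).map g := by
  show (adjLP ff).homEquiv _ _ (pullOne.inv ≫ p ≫ g) = _
  rw [← Category.assoc, (adjLP ff).homEquiv_naturality_right]
  rfl

variable {hq : DCoh.RpushPreservesQCoh (X ↘ Spec (CommRingCat.of k))} [DCoh.HasShriek (X ↘ Spec (CommRingCat.of k)) hq]
  {OY : DCoh.DQCoh (Spec (CommRingCat.of k))}
  (hOY : OY.obj ≅ DCoh.inD (Spec (CommRingCat.of k)) (Coh.structureModule (Spec (CommRingCat.of k))))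

/-- The trace of duality. -/
noncomputable def trMap : (DCoh.Rpush ff).obj (DCoh.dualizingCx ff hq OY) ⟶ oneD SS 0 :=
  ((DCoh.shriekAdj ff hq).counit.app OY).hom ≫ hOY.hom

/-- The duality functional. -/
noncomputable def tFun : (one X ⟶ DCoh.dualizingCx ff hq OY) →ₗ[k] k :=
  (coeff k).toLinearMap ∘ₗ (Linear.rightComp k (oneD SS 0) (trMap hOY)) ∘ₗ (secEquiv _).toLinearMap

/-- Duality out of the unit. -/
theorem bijective_tFun (P : DCoh.D X) (hP : DCoh.IsQCohD P) :
    Function.Bijective (Serre.pairing (tFun hOY) P) := by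
  have hG : Function.Bijective fun g : P ⟶ DCoh.dualizingCx ff hq OY => (DCoh.Rpush ff).map g ≫ trMap hOY := by
    let P' : DCoh.DQCoh X := ⟨P, hP⟩
    have h1 := ((DCoh.RpushQ ff hq).obj P' |> fun R => ((ObjectProperty.fullyFaithfulι _).map_bijective R OY))
    have h2 := ((DCoh.shriekAdj ff hq).homEquiv P' OY).symm.bijective
    have h3 := (ObjectProperty.fullyFaithfulι (fun K : DCoh.D X => DCoh.IsQCohD K)).map_bijective P'
      ((DCoh.shriek ff hq).obj OY)
    have h4 := hOY.homToEquiv (Z := (DCoh.Rpush ff).obj P) |>.bijective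
    convert (h4.comp (h1.comp h2)).comp (Equiv.ofBijective _ h3).symm.bijective using 1
    funext g
    obtain ⟨g', rfl⟩ := h3.2 g
    simp only [Function.comp_apply, Equiv.ofBijective_symm_apply_apply]
    rw [(DCoh.shriekAdj ff hq).homEquiv_counit]
    simp [trMap]
  have e : (Serre.pairing (tFun hOY) P : _ → Module.Dual k (one X ⟶ P)) =
      (secEquiv P).dualMap ∘ Serre.pairing (coeff k).toLinearMap ((DCoh.Rpush ff).obj P) ∘
        fun g => (DCoh.Rpush ff).map g ≫ trMap hOY := by
    funext g
    ext p
    simp only [Function.comp_apply, LinearEquiv.dualMap_apply, Serre.pairing_apply, tFun, LinearMap.coe_comp,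
      LinearEquiv.coe_coe, Linear.rightComp_apply, secEquiv_comp, Category.assoc]
  rw [e]
  exact (secEquiv P).dualMap.bijective.comp ((bijective_pairing_field k _ (hq P hP)).comp hG)

theorem finite_perfect_hom {K L : DCoh.D X} (hK : DCoh.IsPerfect K) (hL : DCoh.IsPerfect L) :
    Module.Finite k (K ⟶ L) := by
  haveI : IsLocallyNoetherian X := LocallyOfFiniteType.isLocallyNoetherian ff
  haveI : CompactSpace X := QuasiCompact.compactSpace_of_compactSpace ff
  obtain ⟨b, hb⟩ := DPerf.exists_isLE_of_pseudoCoherent (DGen9.isPseudoCoherentD_of_isPerfect hK 0)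
  obtain ⟨a, ha⟩ := DPerf.exists_isGE_of_perfect hL
  have hc : ∀ {M : DCoh.D X}, DCoh.IsPerfect M → DCoh.IsCohD M := fun hM i =>
    DPerf.isCoh_HD_of_pseudoCoherent (DGen9.isPseudoCoherentD_of_isPerfect hM i) (DGen9.isQCohD_of_isPerfect hM i)
      le_rfl
  haveI := hb
  haveI := ha
  exact ExtFin9.finite_hom k K L (hc hK) b (hc hL) a

end Groth.Agent.SerreP9
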