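import Groth.Agent.Lib.SerreP9.Braid
import Groth.Agent.Lib.ExtFin9.Linear
import Groth.Agent.Lib.DMon9.ProjQC
import Groth.Agent.Lib.FMAdj9.Basic
import Groth.Prelude.Def_KLin

/-! Linear structures on the monoidal derived category. -/

set_option autoImplicit false
set_option linter.unusedSectionVars false
set_option linter.style.haveILetI false
set_option backward.isDefEq.respectTransparency false
set_option backward.isDefEq.respectTransparency.types false
set_option maxHeartbeats 800000

universe u

open CategoryTheory CategoryTheory.Limits MonoidalCategory AlgebraicGeometry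

attribute [local instance] HasDerivedCategory.standard

namespace Groth.Agent.SerreP9

open KFlat KFlat.Sch DMon9

variable (k : Type u) [CommRing k] {X Y : Scheme.{u}} [X.Over (Spec (CommRingCat.of k))]
  [Y.Over (Spec (CommRingCat.of k))]

/-- The additive structure of the monoidal derived category. -/
@[reducible] noncomputable def preDM (X : Scheme.{u}) : Preadditive (DM X) :=
  inferInstanceAs (Preadditive (DCoh.D X))

attribute [local instance] preDM

/-- The linear structure of the monoidal derived category. -/
@[reducible] noncomputable def linDM : Linear k (DM X) := inferInstanceAs (Linear k (DCoh.D X))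

theorem additive_tRD (A : DM X) : (FMAdj9.tRD A).Additive := by
  obtain ⟨K, ⟨e⟩⟩ := exists_qM (A : DCoh.D X)
  haveI := KFlat.Sch.hasLTensorCx K.obj
  haveI : (DCoh.LTensorCx K.obj).Additive := inferInstance
  let e' : (qM X).obj K ≅ A := e
  exact Functor.additive_of_iso ((theta K).symm ≪≫ (FMAdj9.tRDMap e' :))

theorem linear_tRD (A : DM X) : (FMAdj9.tRD A).Linear k := by
  obtain ⟨K, ⟨e⟩⟩ := exists_qM (A : DCoh.D X)
  haveI := KFlat.Sch.hasLTensorCx K.obj
  haveI : (DCoh.LTensorCx K.obj).Additive := inferInstance
  haveI := additive_tRD A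
  haveI := ExtFin9.linear_LT k K.obj
  let e' : (qM X).obj K ≅ A := e
  exact Functor.linear_of_iso k ((theta K).symm ≪≫ (FMAdj9.tRDMap e' :))

/-- Left tensoring is right tensoring. -/
noncomputable def leftRight (A : DM X) : (tensorLeft A : DM X ⥤ DM X) ≅ tensorRight A :=
  (braD X).app A

theorem additive_tensorLeft (A : DM X) : (tensorLeft A : DM X ⥤ DM X).Additive :=
  haveI : (tensorRight A : DM X ⥤ DM X).Additive := additive_tRD A
  Functor.additive_of_iso (leftRight A).symm

theorem linear_tensorLeft (A : DM X) :
    letI := linDM k (X := X)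
    (tensorLeft A : DM X ⥤ DM X).Linear k := by
  letI := linDM k (X := X)
  haveI : (tensorRight A : DM X ⥤ DM X).Additive := additive_tRD A
  haveI := additive_tensorLeft A
  haveI : (tensorRight A : DM X ⥤ DM X).Linear k := linear_tRD k A
  exact Functor.linear_of_iso k (leftRight A).symm

section Push

variable (f : X ⟶ Y) [f.IsOver (Spec (CommRingCat.of k))]

instance additive_pullback : (Scheme.Modules.pullback f).Additive :=
  haveI := preservesBinaryBiproducts_of_preservesBinaryCoproducts (Scheme.Modules.pullback f)
  Functor.additive_of_preservesBinaryBiproducts _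

theorem linear_pullback : (Scheme.Modules.pullback f).Linear k := by
  refine (Functor.linear_iff k _).mpr fun M a => ?_
  let adj := Scheme.Modules.pullbackPushforwardAdjunction f
  refine (adj.homEquiv _ _).injective ?_
  rw [adj.homEquiv_unit, adj.homEquiv_unit, ← Functor.comp_map, ← adj.unit.naturality, Functor.id_map,
    (Scheme.Modules.pushforward f).map_smul, CategoryTheory.Functor.map_id, Linear.comp_smul]
  erw [Linear.smul_comp, Category.id_comp]

theorem linear_lP : (lP f).Linear k := by
  haveI := linear_pullback k f
  refine (Functor.linear_iff k _).mpr fun K a => ?_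
  obtain ⟨F, ⟨e⟩⟩ := exists_qM (K : DCoh.D Y)
  let c := (lPFac f).app F
  have hF : (pullCx f).map (a • 𝟙 F.obj) = a • 𝟙 _ := by
    refine HomologicalComplex.hom_ext _ _ fun i => ?_
    simp
  have hn : (lP f).map (DerivedCategory.Q.map (a • 𝟙 F.obj)) = a • 𝟙 _ := by
    rw [← cancel_mono c.hom]
    refine ((lPFac f).hom.naturality (ObjectProperty.homMk (a • 𝟙 F.obj) : F ⟶ F)).trans ?_
    show _ ≫ DerivedCategory.Q.map ((pullCx f).map (a • 𝟙 F.obj)) = _
    rw [hF, Functor.map_smul, CategoryTheory.Functor.map_id, Linear.comp_smul, Linear.smul_comp, Category.id_comp]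
    exact congrArg (a • ·) (Category.comp_id _)
  have hK : (a • 𝟙 K : K ⟶ K) = e.inv ≫ DerivedCategory.Q.map (a • 𝟙 F.obj) ≫ e.hom := by
    rw [Functor.map_smul]
    erw [CategoryTheory.Functor.map_id]
    rw [Linear.smul_comp]
    erw [Category.id_comp]
    rw [Linear.comp_smul, Iso.inv_hom_id]
  rw [hK, Functor.map_comp, Functor.map_comp, hn, Linear.smul_comp]
  erw [Category.id_comp]
  rw [Linear.comp_smul, ← Functor.map_comp, Iso.inv_hom_id, CategoryTheory.Functor.map_id]

theorem linear_rpush [DCoh.HasRpush f] : (DCoh.Rpush f).Linear k := by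
  haveI := linear_lP k f
  haveI := DPush.exists_commShift_isTriangulated f
  haveI : (lP f).Additive := by
    haveI : (lP f).IsLeftAdjoint := (adjLP f).isLeftAdjoint
    haveI := preservesBinaryBiproducts_of_preservesBinaryCoproducts (lP f)
    exact Functor.additive_of_preservesBinaryBiproducts _
  exact ExtFin9.linear_of_adj k (adjLP f)

end Push

end Groth.Agent.SerreP9
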