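import Groth.Agent.Lib.SerreP9.Base
import Groth.Agent.Lib.FMAdj9.Main
import Groth.Agent.Lib.FMAdj9.ConvPerf
import Groth.Agent.Lib.FMAdj9.GorShift
import Groth.Prelude.Def_KLin2
import Groth.Prelude.Def_SGA6
import Groth.Prelude.Def_Dual3

/-! The Serre functor on perfect complexes of a proper Gorenstein scheme over a field. -/

set_option autoImplicit false
set_option linter.unusedSectionVars false
set_option linter.style.haveILetI false
set_option backward.isDefEq.respectTransparency false
set_option backward.isDefEq.respectTransparency.types false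
set_option maxHeartbeats 1600000

universe u

open CategoryTheory CategoryTheory.Limits MonoidalCategory AlgebraicGeometry
open Groth.Agent.TwistBC9 (oneD)

attribute [local instance] HasDerivedCategory.standard

namespace Groth.Agent.SerreP9

open DMon9

attribute [local instance] selfOver preDM

variable {k : Type u} [Field k] {X : Scheme.{u}} [X.Over (Spec (CommRingCat.of k))]
  [IsProper (X ↘ Spec (CommRingCat.of k))] [DCoh.HasRpush (X ↘ Spec (CommRingCat.of k))]
  {hq : DCoh.RpushPreservesQCoh (X ↘ Spec (CommRingCat.of k))} [DCoh.HasShriek (X ↘ Spec (CommRingCat.of k)) hq]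
  {OY : DCoh.DQCoh (Spec (CommRingCat.of k))}
  (hOY : OY.obj ≅ DCoh.inD (Spec (CommRingCat.of k)) (Coh.structureModule (Spec (CommRingCat.of k))))

local notation "ff" => (X ↘ Spec (CommRingCat.of k))
set_option quotPrecheck false in
local notation "T" => (SGA6.perfP X).FullSubcategory


/-- A perfect object, monoidally typed. -/
noncomputable abbrev objM (A : T) : DM X := A.obj

/-- The chosen dual. -/
noncomputable def dualOf (A : T) : DM X := (BC8.exists_pairing_left_perfect (objM A) A.property).choose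

theorem isPerfect_dualOf (A : T) : DCoh.IsPerfect (dualOf A : DCoh.D X) :=
  (BC8.exists_pairing_left_perfect (objM A) A.property).choose_spec.1

noncomputable instance pairingOf (A : T) : ExactPairing (objM A) (dualOf A) :=
  (BC8.exists_pairing_left_perfect (objM A) A.property).choose_spec.2.some

/-- The functional in the monoidal language. -/
noncomputable def tM :
    letI := linDM k (X := X)
    (𝟙_ (DM X) ⟶ (DCoh.dualizingCx ff hq OY : DM X)) →ₗ[k] k :=
  tFun hOY

/-- The trace functional of a perfect object. -/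
noncomputable def tauD (A : T) :
    (A.obj ⟶ (FMAdj9.tRD (DCoh.dualizingCx ff hq OY : DM X)).obj A.obj) →ₗ[k] k :=
  letI := linDM k (X := X)
  haveI := fun Z : DM X => additive_tensorLeft Z
  haveI := fun Z : DM X => linear_tensorLeft k Z
  τ (braD X) (tM hOY) (objM A) (dualOf A)

theorem bijective_pairing_tauD (A : T) (B : DCoh.D X) (hB : DCoh.IsQCohD B) :
    Function.Bijective (Serre.pairing (tauD hOY A) B) := by
  letI := linDM k (X := X)
  haveI := fun Z : DM X => additive_tensorLeft Z
  haveI := fun Z : DM X => linear_tensorLeft k Z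
  exact bijective_pairing (braD X) (tM hOY) (objM A) (dualOf A) (B : DM X)
    (bijective_tFun hOY _ (DMon9.isQCohD_tensor (DGen9.isQCohD_of_isPerfect (isPerfect_dualOf A)) hB))

theorem tauD_cyclic {A A' : T} (e : A'.obj ⟶ A.obj)
    (u : A.obj ⟶ (FMAdj9.tRD (DCoh.dualizingCx ff hq OY : DM X)).obj A'.obj) :
    tauD hOY A' (e ≫ u) = tauD hOY A (u ≫ (FMAdj9.tRD (DCoh.dualizingCx ff hq OY : DM X)).map e) := by
  letI := linDM k (X := X)
  haveI := fun Z : DM X => additive_tensorLeft Z
  haveI := fun Z : DM X => linear_tensorLeft k Z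
  let eM : (objM A') ⟶ (objM A) := e
  let uM : (objM A) ⟶ (objM A') ⊗ (DCoh.dualizingCx ff hq OY : DM X) := u
  exact congrArg (tM hOY) (trace_cyclic (braD X) (A := (objM A)) (D := dualOf A) (A' := (objM A'))
    (D' := dualOf A') eM uM)

include hOY in
theorem nonempty_serreFunctor (hG : Dual3.IsGorenstein X) (W : CochainComplex X.Modules ℤ)
    (hW : DCoh.toD X W ≅ DCoh.dualizingCx ff hq OY) [DCoh.HasLTensorCx W] :
    ∃ σ : KLin.SerreFunctor k T,
      Nonempty (σ.S.functor ⋙ ObjectProperty.ι (SGA6.perfP X) ≅ ObjectProperty.ι (SGA6.perfP X) ⋙ DCoh.LTensorCx W) := by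
  letI := linDM k (X := X)
  let ω : DM X := DCoh.dualizingCx ff hq OY
  have hω : BC8.LocShift (ω : DCoh.D X) := BC8.locShift_of_iso
    ((ObjectProperty.ι _).mapIso ((DCoh.shriek ff hq).mapIso (BC8.oIso hOY))).symm
    (FMAdj9.locShift_field ff hG (DCoh.shriekAdj ff hq))
  have hωp : DCoh.IsPerfect (ω : DCoh.D X) := BC8.isPerfect_of_locShift hω
  obtain ⟨ω', hω'p, ⟨pω⟩⟩ := BC8.exists_pairing_left_perfect ω hωp
  haveI := pω
  haveI := FMAdj9.isIso_eta_of_locShift ω ω' hω
  have h₁ : ∀ A : T, (SGA6.perfP X) ((ObjectProperty.ι (SGA6.perfP X) ⋙ FMAdj9.tRD ω).obj A) := fun A =>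
    FMAdj9.isPerfect_tensor_perf (A := (objM A)) A.property hωp
  have h₂ : ∀ A : T, (SGA6.perfP X) ((ObjectProperty.ι (SGA6.perfP X) ⋙ FMAdj9.tRD ω').obj A) := fun A =>
    FMAdj9.isPerfect_tensor_perf (A := (objM A)) A.property hω'p
  let S : T ⥤ T := ObjectProperty.lift _ _ h₁
  let S' : T ⥤ T := ObjectProperty.lift _ _ h₂
  let cc : FMAdj9.tRD ω' ⋙ FMAdj9.tRD ω ≅ 𝟭 (DCoh.D X) :=
    FMAdj9.tRDComp ω' ω ≪≫ FMAdj9.tRDMap (bra (braD X) ω' ω ≪≫ (asIso (η_ ω ω')).symm) ≪≫
      (MonoidalCategory.rightUnitorNatIso (DM X) :)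
  haveI := (ObjectProperty.fullyFaithfulι (SGA6.perfP X)).full
  haveI := (ObjectProperty.fullyFaithfulι (SGA6.perfP X)).faithful
  let E : T ≌ T := CategoryTheory.Equivalence.mk S S'
    (Functor.fullyFaithfulCancelRight (ObjectProperty.ι (SGA6.perfP X))
      ((Functor.isoWhiskerLeft (ObjectProperty.ι (SGA6.perfP X)) (FMAdj9.tRDCancel ω ω')) :)).symm
    (Functor.fullyFaithfulCancelRight (ObjectProperty.ι (SGA6.perfP X))
      ((Functor.isoWhiskerLeft (ObjectProperty.ι (SGA6.perfP X)) cc) :))
  haveI := additive_tRD ω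
  haveI := linear_tRD k ω
  have hlin : S.Linear k :=
    { map_smul := fun {A B} f r => ObjectProperty.hom_ext _ ((FMAdj9.tRD ω).map_smul r f.hom) }
  haveI hfin : ∀ A B : T, Module.Finite k (A ⟶ B) := fun A B => by
    haveI : Module.Finite k ((ObjectProperty.ι (SGA6.perfP X)).obj A ⟶ (ObjectProperty.ι (SGA6.perfP X)).obj B) :=
      finite_perfect_hom (k := k) A.property B.property
    haveI : _root_.IsNoetherian k ((ObjectProperty.ι (SGA6.perfP X)).obj A ⟶ (ObjectProperty.ι (SGA6.perfP X)).obj B) :=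
      isNoetherian_of_isNoetherianRing_of_finite k _
    exact Module.Finite.of_injective (ObjectProperty.ι (SGA6.perfP X) |>.mapLinearMap k (X := A) (Y := B))
      ((ObjectProperty.fullyFaithfulι _).map_bijective A B).1
  let τT : ∀ A : T, (A ⟶ S.obj A) →ₗ[k] k := fun A =>
    tauD hOY A ∘ₗ (ObjectProperty.ι (SGA6.perfP X)).mapLinearMap k
  have hrep : ∀ A : T, Serre.IsRep (τT A) := fun A B => by
    let Fl : (A ⟶ B) ≃ₗ[k] (A.obj ⟶ B.obj) := LinearEquiv.ofBijective
      ((ObjectProperty.ι (SGA6.perfP X)).mapLinearMap k) ((ObjectProperty.fullyFaithfulι _).map_bijective A B)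
    have e : (Serre.pairing (τT A) B : _ → Module.Dual k (A ⟶ B)) =
        Fl.dualMap ∘ Serre.pairing (tauD hOY A) B.obj ∘ (ObjectProperty.ι (SGA6.perfP X)).map := by
      funext g
      ext f
      rfl
    rw [e]
    exact Fl.dualMap.bijective.comp ((bijective_pairing_tauD hOY A B.obj
      (DGen9.isQCohD_of_isPerfect B.property)).comp ((ObjectProperty.fullyFaithfulι _).map_bijective B (S.obj A)))
  refine ⟨{ S := E, linear := hlin, homIso := fun A B => Serre.transpose (hrep A) B,
            homIso_comp := fun {A B B'} f g h => ?_, homIso_precomp := fun {A' A B} e f h => ?_ }, ?_⟩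
  · show Serre.transpose (hrep A) B' (f ≫ g) h = Serre.transpose (hrep A) B f (g ≫ h)
    rw [Serre.transpose_apply (hrep A), Serre.transpose_apply (hrep A), Category.assoc]
  · show Serre.transpose (hrep A') B (e ≫ f) h = Serre.transpose (hrep A) B f (h ≫ S.map e)
    rw [Serre.transpose_apply (hrep A'), Serre.transpose_apply (hrep A)]
    show tauD hOY A' ((e.hom ≫ f.hom) ≫ h.hom) = tauD hOY A (f.hom ≫ h.hom ≫ (FMAdj9.tRD ω).map e.hom)
    rw [Category.assoc, tauD_cyclic hOY (A := A) (A' := A') e.hom (f.hom ≫ h.hom)]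
    exact congrArg (tauD hOY A) (Category.assoc _ _ _)
  · obtain ⟨t⟩ := FMAdj9.nonempty_ltIso W
    exact ⟨(Functor.isoWhiskerLeft (ObjectProperty.ι (SGA6.perfP X))
      (t ≪≫ FMAdj9.tRDMap (show (DCoh.toD X W : DM X) ≅ ω from hW))).symm⟩

end Groth.Agent.SerreP9
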