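import Groth.Agent.Lib.DMon9.LT

/-! A commutation constraint on the derived category, natural in both variables. -/

set_option autoImplicit false
set_option linter.unusedSectionVars false
set_option linter.style.haveILetI false
set_option backward.isDefEq.respectTransparency false
set_option backward.isDefEq.respectTransparency.types false
set_option maxHeartbeats 800000

universe v' u' v w' w u

open CategoryTheory CategoryTheory.Limits MonoidalCategory AlgebraicGeometry
open Localization.Monoidal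

attribute [local instance] HasDerivedCategory.standard

namespace Groth.Agent.SerreP9

open KFlat

section Generic

variable {C : Type w} [Category.{v} C] [Abelian C] [HasColimitsOfSize.{0, 0} C] [PreservesColimitsOfSize.{0, 0} (𝟭 C)]
  (T : C ⥤ C ⥤ C) [T.Additive] [∀ M, (T.obj M).Additive]
  (η : ∀ M N : C, (𝟭 C).obj ((T.obj ((𝟭 C).obj M)).obj ((𝟭 C).obj N)) ≅ (T.flip.obj ((𝟭 C).obj M)).obj ((𝟭 C).obj N))
  (hη : Natural₂ T T.flip (𝟭 C) (𝟭 C) (𝟭 C) (𝟭 C) (𝟭 C) η)

/-- Commutation of complexes, for a commutative bifunctor. -/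
noncomputable def commG (L E : CochainComplex C ℤ) : ((tcx T).obj L).obj E ≅ ((tcx T).obj E).obj L :=
  (((Functor.mapHomologicalComplexIdIso C (ComplexShape.up ℤ)).app _).symm ≪≫
    transferIso T T.flip (𝟭 _) (𝟭 _) (𝟭 _) (𝟭 _) (𝟭 _) hη L E) ≪≫ flipIso T L E

theorem commG_natural_left {L L' : CochainComplex C ℤ} (f : L ⟶ L') (P : CochainComplex C ℤ) :
    ((tcx T).map f).app P ≫ (commG T η hη L' P).hom = (commG T η hη L P).hom ≫ ((tcx T).obj P).map f := by
  have h := transferIso_naturality T T.flip (𝟭 _) (𝟭 _) (𝟭 _) (𝟭 _) (𝟭 _) hη f (𝟙 P)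
  simp only [CategoryTheory.Functor.map_id] at h
  have hs : ((tcx T).map f).app P ≫ (((Functor.mapHomologicalComplexIdIso C (ComplexShape.up ℤ)).app _).symm ≪≫
        transferIso T T.flip (𝟭 _) (𝟭 _) (𝟭 _) (𝟭 _) (𝟭 _) hη L' P).hom =
      (((Functor.mapHomologicalComplexIdIso C (ComplexShape.up ℤ)).app _).symm ≪≫
        transferIso T T.flip (𝟭 _) (𝟭 _) (𝟭 _) (𝟭 _) (𝟭 _) hη L P).hom ≫ ((tcx T.flip).map f).app P := by
    rw [Iso.trans_hom, Iso.trans_hom, Category.assoc, ← Category.assoc]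
    refine (congrArg (· ≫ _) ((Functor.mapHomologicalComplexIdIso C (ComplexShape.up ℤ)).inv.naturality
      (((tcx T).map f).app P))).trans ?_
    exact (Category.assoc _ _ _).trans (congrArg (_ ≫ ·) h)
  unfold commG
  simp only [Iso.trans_hom] at hs ⊢
  rw [Category.assoc, ← Category.assoc, Category.assoc] at *
  rw [← Category.assoc, ← Category.assoc]
  refine (congrArg (· ≫ _) ((Category.assoc _ _ _).trans hs)).trans ?_
  simp only [Category.assoc]
  refine congrArg (_ ≫ ·) (congrArg (_ ≫ ·) ?_)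
  exact HomologicalComplex.mapBifunctorFlipIso_hom_naturality (F := T) (c := ComplexShape.up ℤ) (𝟙 P) f

end Generic

section Lift

variable {C : Type w} [Category.{v} C] [MonoidalCategory C] (P : ObjectProperty C) [P.IsMonoidal]
  {D : Type w'} [Category.{v'} D] (Q : P.FullSubcategory ⥤ D) (R : C ⥤ D) (hQ : P.ι ⋙ R ≅ Q)
  (c : ∀ A B : C, A ⊗ B ≅ B ⊗ A)
  (hr : ∀ (A : C) {B B' : C} (g : B ⟶ B'), A ◁ g ≫ (c A B').hom = (c A B).hom ≫ g ▷ A)
  (hl : ∀ {A A' : C} (f : A ⟶ A') (B : C), f ▷ B ≫ (c A' B).hom = (c A B).hom ≫ B ◁ f)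

/-- A commutation constraint on a full subcategory, pushed forward. -/
noncomputable def commLift : curriedTensor P.FullSubcategory ⋙ (Functor.whiskeringRight _ _ D).obj Q ≅
    (curriedTensor P.FullSubcategory ⋙ (Functor.whiskeringRight _ _ D).obj Q).flip :=
  NatIso.ofComponents (fun L => NatIso.ofComponents
      (fun M => (hQ.app (L ⊗ M)).symm ≪≫ R.mapIso (c L.obj M.obj) ≪≫ hQ.app (M ⊗ L))
      fun {M M'} g => by
        show Q.map (L ◁ g) ≫ hQ.inv.app (L ⊗ M') ≫ R.map (c L.obj M'.obj).hom ≫ hQ.hom.app (M' ⊗ L) =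
          (hQ.inv.app (L ⊗ M) ≫ R.map (c L.obj M.obj).hom ≫ hQ.hom.app (M ⊗ L)) ≫ Q.map (g ▷ L)
        rw [hQ.inv.naturality_assoc, Category.assoc, Category.assoc, ← hQ.hom.naturality]
        show _ ≫ R.map (L.obj ◁ g.hom) ≫ _ = _
        rw [← R.map_comp_assoc, hr, R.map_comp_assoc]
        rfl)
    fun {L L'} f => NatTrans.ext (funext fun M => by
      show Q.map (f ▷ M) ≫ hQ.inv.app (L' ⊗ M) ≫ R.map (c L'.obj M.obj).hom ≫ hQ.hom.app (M ⊗ L') =
        (hQ.inv.app (L ⊗ M) ≫ R.map (c L.obj M.obj).hom ≫ hQ.hom.app (M ⊗ L)) ≫ Q.map (M ◁ f)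
      rw [hQ.inv.naturality_assoc, Category.assoc, Category.assoc, ← hQ.hom.naturality]
      show _ ≫ R.map (f.hom ▷ M.obj) ≫ _ = _
      rw [← R.map_comp_assoc, hl, R.map_comp_assoc]
      rfl)

end Lift

open KFlat.Sch DMon9

variable {X : Scheme.{u}}

theorem cx_comm_left {A A' : CochainComplex X.Modules ℤ} (f : A ⟶ A') (B : CochainComplex X.Modules ℤ) :
    f ▷ B ≫ (RHom.commCx A' B).hom = (RHom.commCx A B).hom ≫ B ◁ f := by
  rw [whiskerRight_eq, whiskerLeft_eq]
  exact commG_natural_left (TX X) _ natural_flipObjIso f B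

theorem cx_comm_right (A : CochainComplex X.Modules ℤ) {B B' : CochainComplex X.Modules ℤ} (g : B ⟶ B') :
    A ◁ g ≫ (RHom.commCx A B').hom = (RHom.commCx A B).hom ≫ g ▷ A := by
  rw [whiskerRight_eq, whiskerLeft_eq]
  exact RHom.commCx_natural A g

variable (X)

/-- The tensor product of K-flat complexes, in the derived category. -/
noncomputable abbrev ten₂ : KF X ⥤ KF X ⥤ DM X :=
  curriedTensor (KF X) ⋙ (Functor.whiskeringRight (KF X) (KF X) (DM X)).obj (qM X)

/-- The commutation constraint on K-flat complexes. -/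
noncomputable def ten₂Comm : ten₂ X ≅ (ten₂ X).flip :=
  commLift (kfP X) (qM X) DerivedCategory.Q (Iso.refl _) (fun A B => RHom.commCx A B)
    (fun A {_ _} g => cx_comm_right A g) (fun {_ _} f B => cx_comm_left f B)

noncomputable instance lifting₂_ten₂ :
    Localization.Lifting₂ (qM X) (qM X) (kfW X) (kfW X) (ten₂ X) (curriedTensor (DM X)) :=
  ⟨tensorBifunctorIso (qK X) (kfW X) (εK X)⟩

/-- The commutation constraint of the derived category. -/
noncomputable def braD : curriedTensor (DM X) ≅ (curriedTensor (DM X)).flip :=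
  haveI : Localization.Lifting₂ (qM X) (qM X) (kfW X) (kfW X) (ten₂ X).flip (curriedTensor (DM X)).flip :=
    Localization.Lifting₂.flip _ _ _ _ _ _
  Localization.lift₂NatIso (qM X) (qM X) (kfW X) (kfW X) (ten₂ X) (ten₂ X).flip _ _ (ten₂Comm X)

end Groth.Agent.SerreP9
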